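import Mathlib

/-!
# Brauer 1943, general form (S4700): arithmetic

`FormC p n` is the third alternative of S4700: `n (u+1) = h u p + u² + u + h` for some positive
`h, u`.  We show that every divisor `d` of `e (1 + n p)` (`e ∣ p - 1`) that is `≡ ±1, ±e (mod p)` is
one of the few "expected" ones unless `FormC p n` holds.
-/

set_option autoImplicit false

namespace Cfsg.Agent.Helper42.B43c

/-- the third alternative of Brauer's theorem -/
def FormC (p n : ℕ) : Prop :=
  ∃ h u : ℕ, 0 < h ∧ 0 < u ∧ n * (u + 1) = h * u * p + u ^ 2 + u + h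

/-- if `e ∣ p - 1` and `e ∣ b * (1 + u * p)` then `e ∣ b * (u + 1)` -/
theorem dvd_mul_succ_of_dvd (p e b u : ℕ) (hp : 1 ≤ p) (hed : e ∣ p - 1)
    (h : e ∣ b * (1 + u * p)) : e ∣ b * (u + 1) := by
  obtain ⟨t, ht⟩ := hed
  have hp' : p = e * t + 1 := by omega
  have h1 : b * (1 + u * p) = b * (u + 1) + e * (b * u * t) := by
    rw [hp']; ring
  rw [h1] at h
  exact (Nat.dvd_add_left (Dvd.intro _ rfl)).mp h

/-- (A1) a sign `+` non-exceptional degree `1 + u p` with cofactor `e + b p`, `u, b ≥ 1` -/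
theorem formC_of_pos (p e n u b : ℕ) (hp : 2 ≤ p) (he1 : 1 ≤ e) (hed : e ∣ p - 1)
    (hu : 1 ≤ u) (hb : 1 ≤ b) (hprod : (1 + u * p) * (e + b * p) = (1 + n * p) * e) :
    FormC p n := by
  -- b + u e + u b p = e n
  have h1 : b + u * e + u * b * p = e * n := by
    have h2 : (b + u * e + u * b * p) * p = (e * n) * p := by nlinarith
    exact Nat.eq_of_mul_eq_mul_right (by omega) h2
  have h3 : e ∣ b * (1 + u * p) := by
    refine ⟨n - u, ?_⟩
    have hun : u ≤ n := by
      by_contra hlt
      push Not at hlt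
      have : e * n < u * e := by nlinarith
      omega
    zify [hun]
    have h1' : (b : ℤ) + u * e + u * b * p = e * n := by exact_mod_cast h1
    linarith
  obtain ⟨h, hh⟩ := dvd_mul_succ_of_dvd p e b u (by omega) hed h3
  refine ⟨h, u, ?_, hu, ?_⟩
  · rcases Nat.eq_zero_or_pos h with h0 | h0
    · rw [h0, mul_zero] at hh
      have : 0 < b * (u + 1) := by positivity
      omega
    · exact h0
  · -- e * (n (u+1)) = e * (h u p + u² + u + h)
    have h4 : e * (n * (u + 1)) = e * (h * u * p + u ^ 2 + u + h) := by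
      have : e * (n * (u + 1)) = (e * n) * (u + 1) := by ring
      rw [this, ← h1]
      have h5 : (b + u * e + u * b * p) * (u + 1) = b * (u + 1) * (1 + u * p) + u * e * (u + 1) := by
        ring
      rw [h5, hh]
      ring
    exact Nat.eq_of_mul_eq_mul_left (by omega) h4


/-- (A3) an exceptional degree `u p + e` (sign `+`) with cofactor `1 + b p`, `u, b ≥ 1` -/
theorem formC_of_exc_pos (p e n u b : ℕ) (hp : 2 ≤ p) (he1 : 1 ≤ e) (hed : e ∣ p - 1)
    (hu : 1 ≤ u) (hb : 1 ≤ b) (hprod : (u * p + e) * (1 + b * p) = (1 + n * p) * e) :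
    FormC p n := by
  -- u + u b p + e b = e n
  have h1 : u + b * e + b * u * p = e * n := by
    have h2 : (u + b * e + b * u * p) * p = (e * n) * p := by nlinarith
    exact Nat.eq_of_mul_eq_mul_right (by omega) h2
  have h3 : (1 + b * p) * (e + u * p) = (1 + n * p) * e := by
    rw [← hprod]; ring
  exact formC_of_pos p e n b u hp he1 hed hb hu h3

/-- the common core of the two sign `-` cases -/
theorem formC_of_neg_core (p e t n u b : ℕ) (hp : 2 ≤ p) (he1 : 1 ≤ e) (hte : t * e = p - 1)
    (hu2 : 2 ≤ u) (hb1 : 1 ≤ b) (hbt : 2 ≤ b * t) (hrel : b * (u * p) = e * (n + u) + b) :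
    FormC p n := by
  have hp' : p = t * e + 1 := by omega
  -- e ∣ b (u - 1)
  have h3 : e ∣ b * (u - 1) := by
    have h4 : b * (u * p) = b * (u - 1) + b + e * (b * u * t) := by
      obtain ⟨u', rfl⟩ : ∃ u', u = u' + 1 := ⟨u - 1, by omega⟩
      rw [hp']
      simp only [Nat.add_sub_cancel]
      ring
    have h5 : b * (u - 1) + e * (b * u * t) = e * (n + u) := by omega
    have h6 : e ∣ b * (u - 1) + e * (b * u * t) := ⟨n + u, h5⟩
    exact (Nat.dvd_add_left (Dvd.intro _ rfl)).mp h6
  obtain ⟨h, hh⟩ := h3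
  have hbt1 : 1 ≤ b * t := by omega
  refine ⟨h, b * t - 1, ?_, by omega, ?_⟩
  · rcases Nat.eq_zero_or_pos h with h0 | h0
    · rw [h0, mul_zero] at hh
      have : 0 < b * (u - 1) := by
        have : 0 < u - 1 := by omega
        positivity
      omega
    · exact h0
  · obtain ⟨U, hU⟩ : ∃ U, b * t = U + 1 := ⟨b * t - 1, by omega⟩
    obtain ⟨u', rfl⟩ : ∃ u', u = u' + 1 := ⟨u - 1, by omega⟩
    simp only [Nat.add_sub_cancel] at hh
    rw [hU]
    simp only [Nat.add_sub_cancel]
    -- work over ℤ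
    have hrelZ : (b : ℤ) * ((u' + 1) * p) = e * (n + (u' + 1)) + b := by exact_mod_cast hrel
    have hhZ : (b : ℤ) * u' = e * h := by exact_mod_cast hh
    have hUZ : (b : ℤ) * t = U + 1 := by exact_mod_cast hU
    have hpZ : (p : ℤ) = t * e + 1 := by exact_mod_cast hp'
    have heZ : (e : ℤ) ≠ 0 := by exact_mod_cast (by omega : e ≠ 0)
    have hbZ : (b : ℤ) ≠ 0 := by exact_mod_cast (by omega : b ≠ 0)
    have key : (e : ℤ) * b * ((n : ℤ) * (U + 1)) =
        e * b * (h * U * p + U ^ 2 + U + h) := by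
      have e1 : (e : ℤ) * n = b * ((u' + 1) * p) - e * (u' + 1) - b := by linarith
      have e2 : (e : ℤ) * b * ((n : ℤ) * (U + 1)) = b * (U + 1) * (e * n) := by ring
      rw [e2, e1]
      have e3 : (e : ℤ) * b * (h * U * p + U ^ 2 + U + h) =
          b * (e * h) * (U * p + 1) + e * b * (U ^ 2 + U) := by ring
      rw [e3, ← hhZ]
      have hU' : (U : ℤ) = b * t - 1 := by linarith
      rw [hU', hpZ]
      ring
    have key2 : ((n : ℤ) * (U + 1)) = (h * U * p + U ^ 2 + U + h) := by
      have hne : (e : ℤ) * b ≠ 0 := mul_ne_zero heZ hbZ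
      exact mul_left_cancel₀ hne key
    exact_mod_cast key2

/-- (A2) a sign `-` non-exceptional degree `d = u p - 1` with cofactor `w = b p - e`, `u ≥ 2`,
`b t ≥ 2` -/
theorem formC_of_neg (p e t n d w u b : ℕ) (hp : 2 ≤ p) (he1 : 1 ≤ e) (hte : t * e = p - 1)
    (hd : d + 1 = u * p) (hw : w + e = b * p) (hprod : d * w = (1 + n * p) * e)
    (hu2 : 2 ≤ u) (hbt : 2 ≤ b * t) : FormC p n := by
  have hb1 : 1 ≤ b := by
    rcases Nat.eq_zero_or_pos b with h | h
    · rw [h] at hbt; omega
    · exact h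
  apply formC_of_neg_core p e t n u b hp he1 hte hu2 hb1 hbt
  -- (u p - 1)(b p - e) = e + e n p
  have hdZ : (d : ℤ) = u * p - 1 := by
    have : (d : ℤ) + 1 = u * p := by exact_mod_cast hd
    linarith
  have hwZ : (w : ℤ) = b * p - e := by
    have : (w : ℤ) + e = b * p := by exact_mod_cast hw
    linarith
  have hprodZ : (d : ℤ) * w = (1 + n * p) * e := by exact_mod_cast hprod
  rw [hdZ, hwZ] at hprodZ
  have hpZ : (p : ℤ) ≠ 0 := by exact_mod_cast (by omega : p ≠ 0)
  have h1 : (p : ℤ) * ((b : ℤ) * (u * p)) = p * (e * (n + u) + b) := by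
    have : ((u : ℤ) * p - 1) * (b * p - e) = p * (b * (u * p) - e * u - b) + e := by ring
    rw [this] at hprodZ
    linarith
  have h2 := mul_left_cancel₀ hpZ h1
  exact_mod_cast h2

/-- (A4) an exceptional degree `y = u p - e` (sign `-`) with cofactor `w = b p - 1`, `b ≥ 2`,
`u t ≥ 2` -/
theorem formC_of_exc_neg (p e t n y w u b : ℕ) (hp : 2 ≤ p) (he1 : 1 ≤ e) (hte : t * e = p - 1)
    (hy : y + e = u * p) (hw : w + 1 = b * p) (hprod : y * w = (1 + n * p) * e)
    (hb2 : 2 ≤ b) (hut : 2 ≤ u * t) : FormC p n := by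
  have hu1 : 1 ≤ u := by
    rcases Nat.eq_zero_or_pos u with h | h
    · rw [h] at hut; omega
    · exact h
  apply formC_of_neg_core p e t n b u hp he1 hte hb2 hu1 hut
  have hyZ : (y : ℤ) = u * p - e := by
    have : (y : ℤ) + e = u * p := by exact_mod_cast hy
    linarith
  have hwZ : (w : ℤ) = b * p - 1 := by
    have : (w : ℤ) + 1 = b * p := by exact_mod_cast hw
    linarith
  have hprodZ : (y : ℤ) * w = (1 + n * p) * e := by exact_mod_cast hprod
  rw [hyZ, hwZ] at hprodZ
  have hpZ : (p : ℤ) ≠ 0 := by exact_mod_cast (by omega : p ≠ 0)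
  have h1 : (p : ℤ) * ((u : ℤ) * (b * p)) = p * (e * (n + b) + u) := by
    have : ((u : ℤ) * p - e) * (b * p - 1) = p * (u * (b * p) - e * b - u) + e := by ring
    rw [this] at hprodZ
    linarith
  have h2 := mul_left_cancel₀ hpZ h1
  exact_mod_cast h2


/-! ## The classification of the divisors when `FormC` fails -/

/-- the linear relation behind the sign `-` case -/
theorem neg_rel (p e n d w u b : ℕ) (hp : 2 ≤ p)
    (hd : d + 1 = u * p) (hw : w + e = b * p) (hprod : d * w = (1 + n * p) * e) :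
    b * (u * p) = e * (n + u) + b := by
  have hdZ : (d : ℤ) = u * p - 1 := by
    have : (d : ℤ) + 1 = u * p := by exact_mod_cast hd
    linarith
  have hwZ : (w : ℤ) = b * p - e := by
    have : (w : ℤ) + e = b * p := by exact_mod_cast hw
    linarith
  have hprodZ : (d : ℤ) * w = (1 + n * p) * e := by exact_mod_cast hprod
  rw [hdZ, hwZ] at hprodZ
  have hpZ : (p : ℤ) ≠ 0 := by exact_mod_cast (by omega : p ≠ 0)
  have h1 : (p : ℤ) * ((b : ℤ) * (u * p)) = p * (e * (n + u) + b) := by
    have : ((u : ℤ) * p - 1) * (b * p - e) = p * (b * (u * p) - e * u - b) + e := by ring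
    rw [this] at hprodZ
    linarith
  have h2 := mul_left_cancel₀ hpZ h1
  exact_mod_cast h2

/-- the linear relation behind the exceptional sign `-` case -/
theorem exc_neg_rel (p e n y w u b : ℕ) (hp : 2 ≤ p)
    (hy : y + e = u * p) (hw : w + 1 = b * p) (hprod : y * w = (1 + n * p) * e) :
    u * (b * p) = e * (n + b) + u := by
  have hyZ : (y : ℤ) = u * p - e := by
    have : (y : ℤ) + e = u * p := by exact_mod_cast hy
    linarith
  have hwZ : (w : ℤ) = b * p - 1 := by
    have : (w : ℤ) + 1 = b * p := by exact_mod_cast hw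
    linarith
  have hprodZ : (y : ℤ) * w = (1 + n * p) * e := by exact_mod_cast hprod
  rw [hyZ, hwZ] at hprodZ
  have hpZ : (p : ℤ) ≠ 0 := by exact_mod_cast (by omega : p ≠ 0)
  have h1 : (p : ℤ) * ((u : ℤ) * (b * p)) = p * (e * (n + b) + u) := by
    have : ((u : ℤ) * p - e) * (b * p - 1) = p * (u * (b * p) - e * b - u) + e := by ring
    rw [this] at hprodZ
    linarith
  have h2 := mul_left_cancel₀ hpZ h1
  exact_mod_cast h2

/-- (B1) sign `+`, non-exceptional: the degree is `1` or `1 + n p` -/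
theorem cls_pos (p e n u b : ℕ) (hp : 2 ≤ p) (he1 : 1 ≤ e) (hed : e ∣ p - 1)
    (hprod : (1 + u * p) * (e + b * p) = (1 + n * p) * e) (hC : ¬ FormC p n) :
    u = 0 ∨ (b = 0 ∧ u = n) := by
  rcases Nat.eq_zero_or_pos u with hu | hu
  · exact Or.inl hu
  rcases Nat.eq_zero_or_pos b with hb | hb
  · right
    refine ⟨hb, ?_⟩
    rw [hb, zero_mul, add_zero] at hprod
    have h1 : 1 + u * p = 1 + n * p := Nat.eq_of_mul_eq_mul_right (by omega) hprod
    have h2 : u * p = n * p := by omega
    exact Nat.eq_of_mul_eq_mul_right (by omega) h2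
  · exact absurd (formC_of_pos p e n u b hp he1 hed hu hb hprod) hC

/-- (B2) sign `-`, non-exceptional: the degree is `p - 1` (and `b t = n + 1`), or `t = 1` and the
cofactor is `1` -/
theorem cls_neg (p e t n d w u b : ℕ) (hp : 2 ≤ p) (he1 : 1 ≤ e) (hte : t * e = p - 1)
    (hd : d + 1 = u * p) (hw : w + e = b * p) (hprod : d * w = (1 + n * p) * e)
    (hC : ¬ FormC p n) : (u = 1 ∧ b * t = n + 1) ∨ (t = 1 ∧ b = 1 ∧ w = 1) := by
  have hu1 : 1 ≤ u := by
    rcases Nat.eq_zero_or_pos u with h | h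
    · rw [h, zero_mul] at hd; omega
    · exact h
  have hb1 : 1 ≤ b := by
    rcases Nat.eq_zero_or_pos b with h | h
    · rw [h, zero_mul] at hw; omega
    · exact h
  have ht1 : 1 ≤ t := by
    rcases Nat.eq_zero_or_pos t with h | h
    · rw [h, zero_mul] at hte; omega
    · exact h
  have hrel := neg_rel p e n d w u b hp hd hw hprod
  rcases Nat.lt_or_ge u 2 with hu | hu
  · left
    have hu' : u = 1 := by omega
    refine ⟨hu', ?_⟩
    rw [hu', one_mul] at hrel
    have hp' : p = t * e + 1 := by omega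
    rw [hp'] at hrel
    have h1 : e * (b * t) = e * (n + 1) := by nlinarith
    exact Nat.eq_of_mul_eq_mul_left (by omega) h1
  · right
    have hbt : b * t < 2 := by
      by_contra hge
      push Not at hge
      exact hC (formC_of_neg p e t n d w u b hp he1 hte hd hw hprod hu hge)
    have hb' : b = 1 := by
      by_contra hne
      have : 2 ≤ b := by omega
      nlinarith
    have ht' : t = 1 := by
      by_contra hne
      have : 2 ≤ t := by omega
      nlinarith
    refine ⟨ht', hb', ?_⟩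
    rw [hb', one_mul] at hw
    rw [ht', one_mul] at hte
    omega

/-- (B3) sign `+`, exceptional: the degree is `e` or `e (1 + n p)` -/
theorem cls_exc_pos (p e n u b : ℕ) (hp : 2 ≤ p) (he1 : 1 ≤ e) (hed : e ∣ p - 1)
    (hprod : (u * p + e) * (1 + b * p) = (1 + n * p) * e) (hC : ¬ FormC p n) :
    (u = 0 ∧ b = n) ∨ (b = 0 ∧ u = n * e) := by
  rcases Nat.eq_zero_or_pos u with hu | hu
  · left
    refine ⟨hu, ?_⟩
    rw [hu, zero_mul, zero_add] at hprod
    have h0 : (1 + b * p) * e = (1 + n * p) * e := by rw [← hprod]; ring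
    have h1 : 1 + b * p = 1 + n * p := Nat.eq_of_mul_eq_mul_right (by omega) h0
    have h2 : b * p = n * p := by omega
    exact Nat.eq_of_mul_eq_mul_right (by omega) h2
  rcases Nat.eq_zero_or_pos b with hb | hb
  · right
    refine ⟨hb, ?_⟩
    rw [hb, zero_mul, add_zero, mul_one] at hprod
    have h1 : u * p = (n * e) * p := by nlinarith
    exact Nat.eq_of_mul_eq_mul_right (by omega) h1
  · exact absurd (formC_of_exc_pos p e n u b hp he1 hed hu hb hprod) hC

/-- (B4) sign `-`, exceptional: the cofactor is `p - 1` (and `u t = n + 1`), or `t = 1` and the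
degree is `1` -/
theorem cls_exc_neg (p e t n y w u b : ℕ) (hp : 2 ≤ p) (he1 : 1 ≤ e) (hte : t * e = p - 1)
    (hy : y + e = u * p) (hw : w + 1 = b * p) (hprod : y * w = (1 + n * p) * e)
    (hC : ¬ FormC p n) : (b = 1 ∧ u * t = n + 1) ∨ (t = 1 ∧ u = 1 ∧ y = 1) := by
  have hu1 : 1 ≤ u := by
    rcases Nat.eq_zero_or_pos u with h | h
    · rw [h, zero_mul] at hy; omega
    · exact h
  have hb1 : 1 ≤ b := by
    rcases Nat.eq_zero_or_pos b with h | h
    · rw [h, zero_mul] at hw; omega
    · exact h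
  have ht1 : 1 ≤ t := by
    rcases Nat.eq_zero_or_pos t with h | h
    · rw [h, zero_mul] at hte; omega
    · exact h
  have hrel := exc_neg_rel p e n y w u b hp hy hw hprod
  rcases Nat.lt_or_ge b 2 with hb | hb
  · left
    have hb' : b = 1 := by omega
    refine ⟨hb', ?_⟩
    rw [hb', one_mul] at hrel
    have hp' : p = t * e + 1 := by omega
    rw [hp'] at hrel
    have h1 : e * (u * t) = e * (n + 1) := by nlinarith
    exact Nat.eq_of_mul_eq_mul_left (by omega) h1
  · right
    have hut : u * t < 2 := by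
      by_contra hge
      push Not at hge
      exact hC (formC_of_exc_neg p e t n y w u b hp he1 hte hy hw hprod hb hge)
    have hu' : u = 1 := by
      by_contra hne
      have : 2 ≤ u := by omega
      nlinarith
    have ht' : t = 1 := by
      by_contra hne
      have : 2 ≤ t := by omega
      nlinarith
    refine ⟨ht', hu', ?_⟩
    rw [hu', one_mul] at hy
    rw [ht', one_mul] at hte
    omega

end Cfsg.Agent.Helper42.B43c
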