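import Mathlib

/-!
# Brauer 1943, general form (S4700): splitting a divisor of `e (1 + n p)` by its residue mod `p`
-/

set_option autoImplicit false

namespace Cfsg.Agent.Helper42.B43c

theorem split_pos (p e n d : ℕ) (_hp : 2 ≤ p) (hep : e < p) (hd : d % p = 1)
    (hdvd : d ∣ (1 + n * p) * e) :
    ∃ u b : ℕ, d = 1 + u * p ∧ (1 + u * p) * (e + b * p) = (1 + n * p) * e := by
  obtain ⟨w, hw⟩ := hdvd
  have hdd : d = 1 + (d / p) * p := by
    have := Nat.div_add_mod d p
    rw [hd] at this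
    rw [mul_comm] at this
    omega
  have h1 : (d * w) % p = e := by
    rw [← hw]
    have : (1 + n * p) * e = e + p * (n * e) := by ring
    rw [this, Nat.add_mul_mod_self_left]
    exact Nat.mod_eq_of_lt hep
  have h2 : w % p = e := by
    rw [Nat.mul_mod, hd, one_mul, Nat.mod_mod] at h1
    exact h1
  have hww : w = e + (w / p) * p := by
    have := Nat.div_add_mod w p
    rw [h2] at this
    rw [mul_comm] at this
    omega
  refine ⟨d / p, w / p, hdd, ?_⟩
  rw [← hdd, ← hww, hw]

theorem split_neg (p e n d : ℕ) (_hp : 2 ≤ p) (hep : e < p) (hd : (d + 1) % p = 0)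
    (hdvd : d ∣ (1 + n * p) * e) :
    ∃ u b w : ℕ, d + 1 = u * p ∧ w + e = b * p ∧ d * w = (1 + n * p) * e := by
  obtain ⟨w, hw⟩ := hdvd
  have hdd : d + 1 = ((d + 1) / p) * p := by
    have := Nat.div_add_mod (d + 1) p
    rw [hd] at this
    rw [mul_comm] at this
    omega
  have h1 : (d * w) % p = e := by
    rw [← hw]
    have : (1 + n * p) * e = e + p * (n * e) := by ring
    rw [this, Nat.add_mul_mod_self_left]
    exact Nat.mod_eq_of_lt hep
  have h2 : (w + e) % p = 0 := by
    have h3 : (d + 1) * w ≡ 0 [MOD p] := by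
      have : d + 1 ≡ 0 [MOD p] := by unfold Nat.ModEq; rw [hd, Nat.zero_mod]
      simpa using this.mul_right w
    have h4 : d * w ≡ e [MOD p] := by
      unfold Nat.ModEq; rw [h1, Nat.mod_eq_of_lt hep]
    have h5 : (d + 1) * w = w + d * w := by ring
    rw [h5] at h3
    have h6 : w + e ≡ 0 [MOD p] := (Nat.ModEq.add_left w h4.symm).trans h3
    unfold Nat.ModEq at h6
    rw [h6, Nat.zero_mod]
  have hww : w + e = ((w + e) / p) * p := by
    have := Nat.div_add_mod (w + e) p
    rw [h2] at this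
    rw [mul_comm] at this
    omega
  exact ⟨(d + 1) / p, (w + e) / p, w, hdd, hww, hw.symm⟩

theorem split_exc_pos (p e n y : ℕ) (hp : p.Prime) (he1 : 1 ≤ e) (hep : e < p)
    (hy : y % p = e) (hdvd : y ∣ (1 + n * p) * e) :
    ∃ u b : ℕ, y = u * p + e ∧ (u * p + e) * (1 + b * p) = (1 + n * p) * e := by
  obtain ⟨w, hw⟩ := hdvd
  have hp2 := hp.two_le
  have hyy : y = (y / p) * p + e := by
    have := Nat.div_add_mod y p
    rw [hy] at this
    rw [mul_comm] at this
    omega
  have hcop : Nat.Coprime e p := by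
    rw [Nat.coprime_comm]
    exact (Nat.Prime.coprime_iff_not_dvd hp).mpr (Nat.not_dvd_of_pos_of_lt he1 hep)
  have h1 : e * w ≡ e * 1 [MOD p] := by
    have h2 : y * w ≡ e [MOD p] := by
      rw [← hw]
      have : (1 + n * p) * e = e + p * (n * e) := by ring
      rw [this]
      exact (Nat.modEq_iff_dvd' (by omega)).mpr ⟨n * e, by omega⟩ |>.symm
    have h3 : y ≡ e [MOD p] := by
      unfold Nat.ModEq
      rw [hy, Nat.mod_eq_of_lt hep]
    rw [mul_one]
    exact (h3.symm.mul_right w).trans h2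
  have h4 : w ≡ 1 [MOD p] := by
    have hg : Nat.gcd p e = 1 := Nat.coprime_comm.mp hcop
    exact Nat.ModEq.cancel_left_of_coprime hg h1
  have h5 : w % p = 1 := by
    unfold Nat.ModEq at h4
    rw [h4]
    exact Nat.mod_eq_of_lt (by omega)
  have hww : w = 1 + (w / p) * p := by
    have := Nat.div_add_mod w p
    rw [h5] at this
    rw [mul_comm] at this
    omega
  refine ⟨y / p, w / p, hyy, ?_⟩
  rw [← hyy, ← hww, hw]


theorem split_exc_neg (p e n y : ℕ) (hp : p.Prime) (he1 : 1 ≤ e) (hep : e < p)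
    (hy : (y + e) % p = 0) (hdvd : y ∣ (1 + n * p) * e) :
    ∃ u b w : ℕ, y + e = u * p ∧ w + 1 = b * p ∧ y * w = (1 + n * p) * e := by
  obtain ⟨w, hw⟩ := hdvd
  have hp2 := hp.two_le
  have hyy : y + e = ((y + e) / p) * p := by
    have := Nat.div_add_mod (y + e) p
    rw [hy] at this
    rw [mul_comm] at this
    omega
  have hcop : Nat.gcd p e = 1 :=
    (Nat.Prime.coprime_iff_not_dvd hp).mpr (Nat.not_dvd_of_pos_of_lt he1 hep)
  have h2 : y * w ≡ e [MOD p] := by
    rw [← hw]
    have : (1 + n * p) * e = e + p * (n * e) := by ring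
    rw [this]
    exact ((Nat.modEq_iff_dvd' (by omega)).mpr ⟨n * e, by omega⟩).symm
  have h3 : (y + e) * w ≡ 0 [MOD p] := by
    have : y + e ≡ 0 [MOD p] := by unfold Nat.ModEq; rw [hy, Nat.zero_mod]
    simpa using this.mul_right w
  have h4 : e * (w + 1) ≡ e * 0 [MOD p] := by
    have h5 : (y + e) * w = e * w + y * w := by ring
    rw [h5] at h3
    have h6 : e * w + e ≡ 0 [MOD p] := (Nat.ModEq.add_left (e * w) h2.symm).trans h3
    rw [mul_zero]
    have : e * (w + 1) = e * w + e := by ring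
    rw [this]
    exact h6
  have h7 : w + 1 ≡ 0 [MOD p] := Nat.ModEq.cancel_left_of_coprime hcop h4
  have h8 : (w + 1) % p = 0 := by
    unfold Nat.ModEq at h7
    rw [h7, Nat.zero_mod]
  have hww : w + 1 = ((w + 1) / p) * p := by
    have := Nat.div_add_mod (w + 1) p
    rw [h8] at this
    rw [mul_comm] at this
    omega
  exact ⟨(y + e) / p, (w + 1) / p, w, hyy, hww, hw.symm⟩

end Cfsg.Agent.Helper42.B43c
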