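import Cfsg.Agent.Helper42.B43c.Arith
import Cfsg.Agent.Helper42.B43c.Split

/-!
# Brauer 1943, general form (S4700): the possible degrees in the principal block

Here `s = 1 + n p` is the number of Sylow subgroups, `e ∣ p - 1`, `t e = p - 1`.  If `n` is not of
Brauer's exceptional form `FormC p n`, the degrees `d ∣ s e` with `d ≡ ±1`, `±e (mod p)` are
determined.
-/

set_option autoImplicit false

namespace Cfsg.Agent.Helper42.B43c

theorem deg_pos (p e n d : ℕ) (hp : 2 ≤ p) (he1 : 1 ≤ e) (hed : e ∣ p - 1) (hep : e < p)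
    (hd : d % p = 1) (hdvd : d ∣ (1 + n * p) * e) (hC : ¬ FormC p n) :
    d = 1 ∨ d = 1 + n * p := by
  obtain ⟨u, b, hdu, hprod⟩ := split_pos p e n d hp hep hd hdvd
  rcases cls_pos p e n u b hp he1 hed hprod hC with h | ⟨_, h⟩
  · left; rw [hdu, h]; ring
  · right; rw [hdu, h]

theorem deg_neg (p e t n d : ℕ) (hp : 2 ≤ p) (he1 : 1 ≤ e) (hte : t * e = p - 1) (hep : e < p)
    (hd : (d + 1) % p = 0) (hdvd : d ∣ (1 + n * p) * e) (hC : ¬ FormC p n) :
    (d + 1 = p ∧ ∃ b, b * t = n + 1) ∨ (t = 1 ∧ d = (1 + n * p) * e) := by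
  obtain ⟨u, b, w, hdu, hw, hprod⟩ := split_neg p e n d hp hep hd hdvd
  rcases cls_neg p e t n d w u b hp he1 hte hdu hw hprod hC with ⟨h1, h2⟩ | ⟨h1, _, h3⟩
  · left
    refine ⟨?_, b, h2⟩
    rw [hdu, h1, one_mul]
  · right
    refine ⟨h1, ?_⟩
    rw [← hprod, h3, mul_one]

theorem deg_exc_pos (p e n y : ℕ) (hp : p.Prime) (he1 : 1 ≤ e) (hed : e ∣ p - 1) (hep : e < p)
    (hy : y % p = e) (hdvd : y ∣ (1 + n * p) * e) (hC : ¬ FormC p n) :
    y = e ∨ y = (1 + n * p) * e := by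
  obtain ⟨u, b, hyu, hprod⟩ := split_exc_pos p e n y hp he1 hep hy hdvd
  rcases cls_exc_pos p e n u b hp.two_le he1 hed hprod hC with ⟨h, _⟩ | ⟨_, h⟩
  · left; rw [hyu, h]; ring
  · right; rw [hyu, h]; ring

theorem deg_exc_neg (p e t n y : ℕ) (hp : p.Prime) (he1 : 1 ≤ e) (hte : t * e = p - 1)
    (hep : e < p) (hy : (y + e) % p = 0) (hdvd : y ∣ (1 + n * p) * e) (hC : ¬ FormC p n) :
    (∃ u, u * t = n + 1 ∧ y + e = u * p ∧ y * t = 1 + n * p) ∨ (t = 1 ∧ y = 1) := by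
  obtain ⟨u, b, w, hyu, hw, hprod⟩ := split_exc_neg p e n y hp he1 hep hy hdvd
  rcases cls_exc_neg p e t n y w u b hp.two_le he1 hte hyu hw hprod hC with ⟨h1, h2⟩ | ⟨h1, _, h3⟩
  · left
    refine ⟨u, h2, hyu, ?_⟩
    have hw' : w = p - 1 := by rw [h1] at hw; omega
    rw [hw', ← hte] at hprod
    have h4 : (y * t) * e = (1 + n * p) * e := by rw [← hprod]; ring
    exact Nat.eq_of_mul_eq_mul_right he1 h4
  · right
    exact ⟨h1, h3⟩

end Cfsg.Agent.Helper42.B43c
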