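import Cfsg.Agent.Helper16.Brauer43.L3x
import Cfsg.Agent.Helper42.B43c.Deg

/-!
# Brauer 1943, general form (S4700): CONFIG under `¬ FormC p n` (no bound on `n`)

The front end of helper16's `config_core` with the arithmetic of `Helper42/B43c/Deg.lean`.
-/

set_option autoImplicit false

namespace Cfsg.Agent.Helper42.B43c

open Cfsg Cfsg.Agent.Helper16 Cfsg.Agent.Helper16.DefOne Cfsg.Agent.Helper82.DefOne
  Cfsg.Agent.Helper77.DefOne Cfsg.Agent.Helper16.Brauer43 Cfsg.Agent.Helper16.Brauer43.GL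
open scoped ComplexConjugate

universe u

theorem mod_of_modEq (p d c : ℕ) (hc : c < p) (h : (d : ℤ) ≡ (c : ℤ) [ZMOD p]) : d % p = c := by
  have h1 : d ≡ c [MOD p] := Int.natCast_modEq_iff.mp h
  unfold Nat.ModEq at h1
  rw [h1, Nat.mod_eq_of_lt hc]

theorem mod_of_modEq_neg (p d c : ℕ) (h : (d : ℤ) ≡ -(c : ℤ) [ZMOD p]) : (d + c) % p = 0 := by
  have h1 : ((d + c : ℕ) : ℤ) ≡ 0 [ZMOD p] := by
    have := h.add_right (c : ℤ)
    rw [neg_add_cancel] at this
    push_cast
    exact this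
  have h2 : (d + c) ≡ 0 [MOD p] := by
    apply Int.natCast_modEq_iff.mp
    simpa using h1
  unfold Nat.ModEq at h2
  rw [h2, Nat.zero_mod]

variable {G : Type u} [Group G] [Fintype G] {p : ℕ} [Fact p.Prime]
  (P : Sylow p G) [Fintype (P : Subgroup G)] (D : L0Data P)

/-- **CONFIG (X)** under `¬ FormC p n`. -/
theorem config_X_c (hP : Nat.card P = p) (hC : cen P = (P : Subgroup G))
    (hperf : commutator G = ⊤) (n : ℕ) (hs : (nor P).index = 1 + n * p)
    (hF : ¬ FormC p n) (t : ℕ) (hte : t * (cen P).relIndex (nor P) = p - 1) (ht : 2 ≤ t)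
    (χ : IrrCharacter G) (hχ : χ ∈ D.X) (hne : χ ≠ Helper79.principalIrr G) :
    (D.ε χ = 1 ∧ charDegree (χ : G → ℂ) = 1 + n * p) ∨
      (D.ε χ = -1 ∧ charDegree (χ : G → ℂ) + 1 = p) := by
  have hp : p.Prime := Fact.out
  obtain ⟨he1, hed, hep⟩ := e_basic P hP
  have hdne : charDegree (χ : G → ℂ) ≠ 1 := by
    intro h1
    apply hne
    apply Helper20.D8.eq_principal_of_degree_one hperf χ
    rw [Helper79.irr_one χ, h1]
    simp
  have hdvd := deg_dvd_X P D hP hC χ hχ
  rw [hs, mul_comm] at hdvd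
  have hmod := deg_modEq_X P D hP χ hχ
  rcases D.hε χ with h | h
  · left
    rw [h] at hmod
    have hm : charDegree (χ : G → ℂ) % p = 1 :=
      mod_of_modEq p _ 1 hp.one_lt (by simpa using hmod)
    rcases deg_pos p _ n _ hp.two_le he1 hed hep hm hdvd hF with h1 | h1
    · exact absurd h1 hdne
    · exact ⟨h, h1⟩
  · right
    rw [h] at hmod
    have hm : (charDegree (χ : G → ℂ) + 1) % p = 0 :=
      mod_of_modEq_neg p _ 1 (by simpa using hmod)
    rcases deg_neg p _ t n _ hp.two_le he1 hte hep hm hdvd hF with ⟨h1, -⟩ | ⟨h1, -⟩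
    · exact ⟨h, h1⟩
    · omega

/-- **CONFIG (Y)** under `¬ FormC p n`. -/
theorem config_Y_c (hP : Nat.card P = p) (hC : cen P = (P : Subgroup G))
    (n : ℕ) (hs : (nor P).index = 1 + n * p) (hn1 : 1 ≤ n)
    (hF : ¬ FormC p n) (t : ℕ) (hte : t * (cen P).relIndex (nor P) = p - 1) (ht : 2 ≤ t)
    (ψ : IrrCharacter G) (hψ : ψ ∈ D.Y) :
    (D.δ = 1 ∧ charDegree (ψ : G → ℂ) = (cen P).relIndex (nor P)) ∨
      (D.δ = -1 ∧ ∃ a : ℕ, a * t = n + 1 ∧
        charDegree (ψ : G → ℂ) + (cen P).relIndex (nor P) = a * p) := by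
  have hp : p.Prime := Fact.out
  obtain ⟨he1, hed, hep⟩ := e_basic P hP
  have hdvd := deg_dvd_Y P D hP hC ψ hψ
  rw [hs, mul_comm] at hdvd
  have hmod := deg_modEq_Y P D hP ψ hψ
  rcases D.hδ with h | h
  · left
    rw [h, one_mul] at hmod
    have hm : charDegree (ψ : G → ℂ) % p = (cen P).relIndex (nor P) :=
      mod_of_modEq p _ _ hep hmod
    rcases deg_exc_pos p _ n _ hp he1 hed hep hm hdvd hF with h1 | h1
    · exact ⟨h, h1⟩
    · exfalso
      have hsq := deg_sq_le ψ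
      rw [card_eq_mul P hP hC, hs, h1] at hsq
      -- (s e)^2 ≤ s (e p)
      have hs1 : p < 1 + n * p := by nlinarith
      have h2 : (1 + n * p) * (cen P).relIndex (nor P) * ((1 + n * p) * (cen P).relIndex (nor P))
          = (1 + n * p) * ((cen P).relIndex (nor P) * ((1 + n * p) * (cen P).relIndex (nor P))) := by
        ring
      rw [h2] at hsq
      have h3 := Nat.le_of_mul_le_mul_left hsq (by omega)
      have h4 := Nat.le_of_mul_le_mul_left h3 he1
      nlinarith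
  · right
    rw [h, neg_one_mul] at hmod
    have hm : (charDegree (ψ : G → ℂ) + (cen P).relIndex (nor P)) % p = 0 :=
      mod_of_modEq_neg p _ _ hmod
    rcases deg_exc_neg p _ t n _ hp he1 hte hep hm hdvd hF with ⟨u, h1, h2, -⟩ | ⟨h1, -⟩
    · exact ⟨h, u, h1, h2⟩
    · omega

/-- **CONFIG** under `¬ FormC p n`. -/
theorem configConcl_c (hP : Nat.card P = p) (hC : cen P = (P : Subgroup G))
    (hperf : commutator G = ⊤) (n : ℕ) (hs : (nor P).index = 1 + n * p) (hn1 : 1 ≤ n)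
    (hF : ¬ FormC p n) (t : ℕ) (hte : t * (cen P).relIndex (nor P) = p - 1) (ht : 2 ≤ t) :
    ConfigConcl P D n t :=
  configConcl_of_core P D hP hC hperf n hs t hte ht
    (fun χ hχ hne => config_X_c P D hP hC hperf n hs hF t hte ht χ hχ hne)
    (fun ψ hψ => config_Y_c P D hP hC n hs hn1 hF t hte ht ψ hψ)

end Cfsg.Agent.Helper42.B43c
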