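import Cfsg.Agent.Helper42.B43c.ConfigC
import Cfsg.Agent.Helper77.Br43.Core
import Cfsg.Agent.Helper31.B43c.F0
import Cfsg.Agent.Helper68.B43c.F4
import Cfsg.Agent.Helper55.B43c.R45
import Cfsg.Agent.Helper79.B43c.F5

/-!
# Brauer 1943, general form (S4700): the core

* `t_ne_one_c`: `e ≠ p - 1` under `¬ FormC p n` (a character of degree `p - 1` exists, S4508);
* `core_iso`: perfect, `C_G(P) = P`, `¬ FormC p n` ⇒ `PSL₂(p)` or `PSL₂(2^m)`, `p = 2^m + 1`
  (helper77's `brauer_core` with the front end `configConcl_c`);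
* `cen_eq_of_core_bot`: perfect, `O_{p'}(G) = 1`, `¬ FormC p n` ⇒ `C_G(P) = P`.
-/

set_option autoImplicit false

namespace Cfsg.Agent.Helper42.B43c

open Cfsg Cfsg.Agent.Helper16 Cfsg.Agent.Helper16.DefOne Cfsg.Agent.Helper82.DefOne
  Cfsg.Agent.Helper77.DefOne Cfsg.Agent.Helper16.Brauer43

universe u

section

variable {G : Type u} [Group G] [Fintype G] {p : ℕ} [Fact p.Prime] (P : Sylow p G)

/-- under `¬ FormC p n` the principal block of a perfect group contains a character of degree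
`p - 1` with value `-1` on `(P \ 1) · C_G(P)_{p'}` -/
theorem exists_char_pred (hperf : commutator G = ⊤) (hP : Nat.card P = p) (n : ℕ) (hn1 : 1 ≤ n)
    (hs : (Subgroup.normalizer ((P : Subgroup G) : Set G)).index = 1 + n * p)
    (hF : ¬ FormC p n) :
    ∃ χ : IrrCharacter G, charDegree (χ : G → ℂ) + 1 = p ∧
      ∀ x : G, x ∈ (P : Subgroup G) → x ≠ 1 → ∀ y : G,
        y ∈ Subgroup.centralizer ((P : Subgroup G) : Set G) → ¬ p ∣ orderOf y →
        (χ : G → ℂ) (x * y) = -1 := by
  have hnor := nor_eq_normalizer P hP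
  have he2 : 2 ≤ (Subgroup.centralizer ((P : Subgroup G) : Set G)).relIndex
      (Subgroup.normalizer ((P : Subgroup G) : Set G)) :=
    Cfsg.Agent.Helper55.B43c.two_le_relIndex hperf P hP
  have hed : (Subgroup.centralizer ((P : Subgroup G) : Set G)).relIndex
      (Subgroup.normalizer ((P : Subgroup G) : Set G)) ∣ p - 1 := by
    have h1 := relIndex_cen_nor_dvd P hP
    rw [hnor] at h1
    exact h1
  obtain ⟨D'⟩ := Cfsg.Agent.Helper31.B43c.exists_PBlk P hP
  obtain ⟨χ, hχX, hχε, hχ⟩ :=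
    Cfsg.Agent.Helper68.B43c.PBlk.exists_neg P D' hperf hP rfl he2 hed n hn1 hs hF
  refine ⟨χ, hχ, ?_⟩
  intro x hx hx1 y hy hyr
  rw [D'.hvalX χ hχX x hx hx1 y hy hyr, hχε]
  push_cast
  ring

/-- `t ≠ 1` under `¬ FormC p n`. -/
theorem t_ne_one_c (hperf : commutator G = ⊤) (hP : Nat.card P = p)
    (hC : cen P = (P : Subgroup G)) (n : ℕ) (hn1 : 1 ≤ n) (hs : (nor P).index = 1 + n * p)
    (hF : ¬ FormC p n) : (cen P).relIndex (nor P) ≠ p - 1 := by
  intro he
  have hp : p.Prime := Fact.out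
  have hnor := nor_eq_normalizer P hP
  have hs' : (Subgroup.normalizer ((P : Subgroup G) : Set G)).index = 1 + n * p := by
    rw [← hnor]; exact hs
  obtain ⟨χ, hχ, -⟩ := exists_char_pred P hperf hP n hn1 hs' hF
  obtain ⟨x₀, hx₀, hx₀p⟩ := Helper48.DefOneGR.exists_gen P hP
  have hx₀1 : x₀ ≠ 1 := by
    intro h
    rw [h, orderOf_one] at hx₀p
    exact hp.one_lt.ne hx₀p
  have hz := Helper82.McKayP.zpowers_eq_sylow p P hP x₀ hx₀ hx₀p
  have hCx : Subgroup.centralizer ({x₀} : Set G) = Subgroup.zpowers x₀ := by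
    rw [Helper25.NPCSimple.centralizer_singleton_eq P hP x₀ hx₀ hx₀1, hz]
    exact hC
  have hcount := Helper75.sc_class_count hp hx₀p hCx
  have hrelI : (Subgroup.zpowers x₀).relIndex (Subgroup.normalizer (Subgroup.zpowers x₀ : Set G)) =
      p - 1 := by
    rw [← he, hz, hnor]
    have h2 : cen P = (P : Subgroup G) := hC
    rw [h2]
  rw [hrelI] at hcount
  have hp2 : 0 < p - 1 := by have := hp.two_le; omega
  have ht1 : Nat.card {C : ConjClasses G // ∃ g ∈ C.carrier, orderOf g = p} = 1 :=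
    Nat.eq_of_mul_eq_mul_right hp2 (by rw [hcount, one_mul])
  rcases Cfsg.Agent.S4508.result p hp x₀ hx₀p hCx 1 ht1 χ hχ with h | h
  · exact absurd h (by decide)
  · rw [hperf, Subgroup.index_top] at h
    exact absurd h (by decide)

end

/-- **Core**: the S0996 chain without the bound on `n`. -/
theorem core_iso {G : Type u} [Group G] [Finite G] (hperf : commutator G = ⊤) (p : ℕ)
    [Fact p.Prime] (P : Sylow p G) (hP : Nat.card P = p)
    (hcen : Subgroup.centralizer ((P : Subgroup G) : Set G) = (P : Subgroup G)) (n : ℕ)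
    (hn : Nat.card (Sylow p G) = 1 + n * p) (hF : ¬ FormC p n) :
    (3 < p ∧ Nonempty (G ≃* Matrix.ProjectiveSpecialLinearGroup (Fin 2) (ZMod p))) ∨
    (∃ (m : ℕ) (F : Type) (_ : Field F) (_ : Fintype F), Fintype.card F = 2 ^ m ∧ p = 2 ^ m + 1 ∧
      3 < p ∧ Nonempty (G ≃* Matrix.ProjectiveSpecialLinearGroup (Fin 2) F)) := by
  classical
  letI : Fintype G := Fintype.ofFinite G
  letI : Fintype (P : Subgroup G) := Fintype.ofFinite _
  have hp : p.Prime := Fact.out
  have hC : cen P = (P : Subgroup G) := hcen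
  have hnor := nor_eq_normalizer P hP
  obtain ⟨D⟩ := exists_L0Data P hP hC
  obtain ⟨he1, hed, hep⟩ := e_basic P hP
  have hs : (nor P).index = 1 + n * p := by
    rw [hnor, ← hn]; exact (P.card_eq_index_normalizer).symm
  have hn1 : 1 ≤ n := by
    rcases Nat.eq_zero_or_pos n with h | h
    · exfalso
      apply Cfsg.Agent.Helper55.B43c.card_sylow_ne_one hperf P hP
      rw [hn, h]; simp
    · exact h
  have hne := t_ne_one_c P hperf hP hC n hn1 hs hF
  obtain ⟨t, hte⟩ : ∃ t, t * (cen P).relIndex (nor P) = p - 1 := by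
    obtain ⟨t, ht⟩ := hed
    exact ⟨t, by rw [ht, mul_comm]⟩
  have ht : 2 ≤ t := by
    rcases Nat.lt_or_ge t 2 with h | h
    · exfalso
      interval_cases t
      · have := hp.two_le; omega
      · apply hne; rw [← hte, one_mul]
    · exact h
  have hcfg := configConcl_c P D hP hC hperf n hs hn1 hF t hte ht
  exact Cfsg.Agent.Helper77.BrPG.brauer_core P D hperf hP hC n t hs hn1 hte ht hcfg

/-- Front end: `O_{p'}(G) = 1`, not `FormC` ⇒ `C_G(P) = P`. -/
theorem cen_eq_of_core_bot {G : Type u} [Group G] [Finite G] (hperf : commutator G = ⊤) (p : ℕ)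
    [Fact p.Prime] (P : Sylow p G) (hP : Nat.card P = p) (n : ℕ)
    (hn : Nat.card (Sylow p G) = 1 + n * p) (hcore : Cfsg.pPrimeCore p G = ⊥)
    (hF : ¬ FormC p n) :
    Subgroup.centralizer ((P : Subgroup G) : Set G) = (P : Subgroup G) := by
  classical
  letI : Fintype G := Fintype.ofFinite G
  have hp : p.Prime := Fact.out
  have hs : (Subgroup.normalizer ((P : Subgroup G) : Set G)).index = 1 + n * p := by
    rw [← hn]; exact (P.card_eq_index_normalizer).symm
  have hn1 : 1 ≤ n := by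
    rcases Nat.eq_zero_or_pos n with h | h
    · exfalso
      apply Cfsg.Agent.Helper55.B43c.card_sylow_ne_one hperf P hP
      rw [hn, h]; simp
    · exact h
  obtain ⟨χ, hχd, hχv⟩ := exists_char_pred P hperf hP n hn1 hs hF
  apply Cfsg.Agent.Helper79.B43c.cen_eq_of_char P hP hcore χ _ hχv
  rw [Helper79.irr_one χ]
  congr 1
  omega

end Cfsg.Agent.Helper42.B43c
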