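import Cfsg.Agent.Helper42.B43c.Core
import Cfsg.Agent.Helper65.B43c.R1
import Cfsg.Agent.Helper60.B43c.R2
import Cfsg.Agent.Helper48.B43c.R6
import Cfsg.Agent.Helper76.SylowNormalizes
import Cfsg.Agent.Helper39.DegreeGraphPSL2Even
import Cfsg.Agent.Lib.Cores

/-!
# Brauer 1943, general form (S4700): the final assembly

Reduction to `G / O_{p'}(G)`: `n_p(G) = n_p(G / H) · k`, `k ≡ 1 (mod p)`; if `k ≠ 1` then `n` is of
the form `FormC`; otherwise `G / H` has the same `n`, `O_{p'}(G / H) = 1`, so `C(P̄) = P̄`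
(`cen_eq_of_core_bot`) and `core_iso` applies.
-/

set_option autoImplicit false

namespace Cfsg.Agent.Helper42.B43c

open Cfsg

universe u

/-- quotients of perfect groups are perfect -/
theorem commutator_quotient_eq_top {G : Type u} [Group G] (hperf : commutator G = ⊤)
    (N : Subgroup G) [N.Normal] : commutator (G ⧸ N) = ⊤ := by
  rw [commutator_def, ← Subgroup.map_top_of_surjective (QuotientGroup.mk' N)
    (QuotientGroup.mk'_surjective N), ← Subgroup.map_commutator, ← commutator_def, hperf]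

theorem main {G : Type u} [Group G] [Finite G] (hperf : commutator G = ⊤) (p : ℕ) [Fact p.Prime]
    (P : Sylow p G) (hP : Nat.card P = p) (n : ℕ) (hn : Nat.card (Sylow p G) = 1 + n * p) :
    (∃ (F : Type) (_ : Field F) (_ : Fintype F), Fintype.card F = p ∧ 3 < p ∧
      Nonempty (G ⧸ Cfsg.pPrimeCore p G ≃* Matrix.ProjectiveSpecialLinearGroup (Fin 2) F)) ∨
    (∃ (m : ℕ) (F : Type) (_ : Field F) (_ : Fintype F), Fintype.card F = 2 ^ m ∧ p = 2 ^ m + 1 ∧
      3 < p ∧ Nonempty (G ⧸ Cfsg.pPrimeCore p G ≃* Matrix.SpecialLinearGroup (Fin 2) F)) ∨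
    (∃ h u : ℕ, 0 < h ∧ 0 < u ∧ n * (u + 1) = h * u * p + u ^ 2 + u + h) := by
  classical
  have hp : p.Prime := Fact.out
  by_cases hC : FormC p n
  · exact Or.inr (Or.inr hC)
  set H := Cfsg.pPrimeCore p G with hH
  have hHcop : (Nat.card H).Coprime p := Cfsg.Agent.Lib.card_pPrimeCore_coprime p
  set Pb : Sylow p (G ⧸ H) := P.mapSurjective (QuotientGroup.mk'_surjective H) with hPb
  have hPbc : Nat.card Pb = p := by
    rw [hPb, Cfsg.Agent.Helper60.B43c.card_mapSurjective_of_coprime H hHcop P, hP]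
  have hperfb : commutator (G ⧸ H) = ⊤ := commutator_quotient_eq_top hperf H
  obtain ⟨k, hk1, hk⟩ := Cfsg.Agent.Helper65.B43c.card_sylow_quotient (p := p) H
  -- the number of Sylow subgroups of the quotient
  have hmod : Nat.card (Sylow p (G ⧸ H)) % p = 1 := by
    have h1 : Nat.card (Sylow p (G ⧸ H)) ≡ 1 [MOD p] := card_sylow_modEq_one p (G ⧸ H)
    unfold Nat.ModEq at h1
    rw [h1]
    exact Nat.one_mod_eq_one.mpr hp.ne_one
  have hne1 : Nat.card (Sylow p (G ⧸ H)) ≠ 1 :=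
    Cfsg.Agent.Helper55.B43c.card_sylow_ne_one hperfb Pb hPbc
  obtain ⟨n₁, hn₁⟩ : ∃ n₁, Nat.card (Sylow p (G ⧸ H)) = 1 + n₁ * p := by
    refine ⟨Nat.card (Sylow p (G ⧸ H)) / p, ?_⟩
    have := Nat.div_add_mod (Nat.card (Sylow p (G ⧸ H))) p
    rw [hmod] at this
    rw [mul_comm] at this
    omega
  have hn₁1 : 1 ≤ n₁ := by
    rcases Nat.eq_zero_or_pos n₁ with h | h
    · exfalso; apply hne1; rw [hn₁, h]; simp
    · exact h
  have hprod : (1 + n₁ * p) * k = 1 + n * p := by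
    rw [← hn₁, ← hk, hn]
  rcases Cfsg.Agent.Helper48.B43c.formC_of_mul p n n₁ k hp.two_le hk1 hn₁1 hprod with hk' | hF
  swap
  · exact absurd hF hC
  have hnn : n₁ = n := by
    rw [hk', mul_one] at hprod
    have : n₁ * p = n * p := by omega
    exact Nat.eq_of_mul_eq_mul_right hp.pos this
  rw [hnn] at hn₁
  have hcore : Cfsg.pPrimeCore p (G ⧸ H) = ⊥ :=
    Cfsg.Agent.Helper76.pPrimeCore_quotient_pPrimeCore p
  have hcen := cen_eq_of_core_bot hperfb p Pb hPbc n hn₁ hcore hC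
  rcases core_iso hperfb p Pb hPbc hcen n hn₁ hC with
    ⟨h3, ⟨iso⟩⟩ | ⟨m, F, hF1, hF2, hcard, hpm, h3, ⟨iso⟩⟩
  · left
    exact ⟨ZMod p, inferInstance, inferInstance, ZMod.card p, h3, ⟨iso⟩⟩
  · right; left
    have hm : 1 ≤ m := by
      rcases Nat.eq_zero_or_pos m with h | h
      · rw [h] at hpm; omega
      · exact h
    haveI := Cfsg.Agent.Helper48.B43c.charP_two_of_card (F := F) m hm hcard
    exact ⟨m, F, hF1, hF2, hcard, hpm, h3,
      ⟨iso.trans (Cfsg.Agent.Helper39.sl2EquivPSL2 (F := F)).symm⟩⟩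

end Cfsg.Agent.Helper42.B43c
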