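import Cfsg.Agent.Helper16.DefOne.Principal
import Cfsg.Agent.Helper16.BlockOrthogonality
import Cfsg.Agent.Helper79.Linear
import Cfsg.Agent.Helper42.B43c.Deg

/-!
# Brauer 1943, general form (S4700): the principal block of a group with `|P| = p`, as a structure

No hypothesis on `C_G(P)`.  `e = |N_G(P) : C_G(P)|`.
-/

set_option autoImplicit false

namespace Cfsg.Agent.Helper42.B43c

open Cfsg

universe u

variable {G : Type u} [Group G] [Fintype G] {p : ℕ} [Fact p.Prime]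

/-- The output of `Helper16.DefOne.principal_structure`, plus: the principal character belongs to
the block, and block orthogonality between `x ∈ P \ 1` and `1`. -/
structure PBlk (P : Sylow p G) (e : ℕ) where
  X : Set (IrrCharacter G)
  Y : Set (IrrCharacter G)
  εX : IrrCharacter G → ℤ
  ε : ℤ
  hdisj : Disjoint X Y
  hcX : Nat.card X = e
  hcY : Nat.card Y = (p - 1) / e
  hεX : ∀ χ ∈ X, εX χ = 1 ∨ εX χ = -1
  hdegX : ∀ χ ∈ X, (charDegree (χ : G → ℂ) : ℤ) ≡ εX χ [ZMOD p]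
  hvalX : ∀ χ ∈ X, ∀ x : G, x ∈ (P : Subgroup G) → x ≠ 1 → ∀ y : G,
    y ∈ Subgroup.centralizer ((P : Subgroup G) : Set G) → ¬ p ∣ orderOf y →
    (χ : G → ℂ) (x * y) = (εX χ : ℂ)
  hε : ε = 1 ∨ ε = -1
  hdegY : ∀ θ ∈ Y, (charDegree (θ : G → ℂ) : ℤ) ≡ ε * (e : ℤ) [ZMOD p]
  hYeq : ∀ θ ∈ Y, ∀ θ' ∈ Y, ∀ g : G, ¬ p ∣ orderOf g → (θ : G → ℂ) g = (θ' : G → ℂ) g
  hrel : ∀ θ ∈ Y, ∀ g : G, ¬ p ∣ orderOf g →
    (ε : ℂ) * (θ : G → ℂ) g = ∑ᶠ χ ∈ X, (εX χ : ℂ) * (χ : G → ℂ) g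
  hprinc : Helper79.principalIrr G ∈ X ∪ Y
  horth : ∀ x : G, x ∈ (P : Subgroup G) → x ≠ 1 →
    ∑ᶠ χ ∈ X ∪ Y, (χ : G → ℂ) x * (χ : G → ℂ) 1 = 0

end Cfsg.Agent.Helper42.B43c
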